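import Cfsg.Prelude
import Mathlib.GroupTheory.SchurZassenhaus
import Mathlib.GroupTheory.Sylow

/-!
# Sylow subgroups of subgroups, supplements, and π-groups

Auxiliary facts for `π`-homogeneous groups.
-/

set_option autoImplicit false
set_option linter.unusedSectionVars false

namespace CfsgLib.HomogComplement

open Subgroup

universe u

variable {G : Type u} [Group G]

/-- Conjugation by `g` carries `S` into `T`. -/
def Moves (g : G) (S T : Subgroup G) : Prop := ∀ x ∈ S, g * x * g⁻¹ ∈ T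

theorem Moves.mul {g k : G} {S T U : Subgroup G} (h1 : Moves g S T) (h2 : Moves k T U) :
    Moves (k * g) S U := by
  intro x hx
  have := h2 _ (h1 x hx)
  simpa [mul_assoc, mul_inv_rev] using this

theorem moves_map (g : G) (S : Subgroup G) : Moves g S (S.map (MulAut.conj g).toMonoidHom) := by
  intro x hx
  exact ⟨x, hx, by simp⟩

theorem Moves.map_le {g : G} {S T : Subgroup G} (h : Moves g S T) :
    S.map (MulAut.conj g).toMonoidHom ≤ T := by
  rintro y ⟨x, hx, rfl⟩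
  simpa using h x hx

theorem card_conj (g : G) (S : Subgroup G) :
    Nat.card ↥(S.map (MulAut.conj g).toMonoidHom) = Nat.card S :=
  (Nat.card_congr (S.equivMapOfInjective _ (MulAut.conj g).injective).toEquiv).symm

theorem mem_conj_iff (g y : G) (S : Subgroup G) :
    y ∈ S.map (MulAut.conj g).toMonoidHom ↔ g⁻¹ * y * g ∈ S := by
  constructor
  · rintro ⟨x, hx, rfl⟩
    simpa [mul_assoc] using hx
  · intro h
    exact ⟨_, h, by simp [mul_assoc]⟩

theorem mem_normalizer_of_moves [Finite G] {g : G} {S : Subgroup G} (h : Moves g S S) :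
    g ∈ normalizer (S : Set G) := by
  have he : S.map (MulAut.conj g).toMonoidHom = S :=
    Subgroup.eq_of_le_of_card_ge h.map_le (card_conj g S).ge
  rw [mem_normalizer_iff]
  intro x
  refine ⟨h x, fun hx => ?_⟩
  rw [← he, mem_conj_iff] at hx
  simpa [mul_assoc] using hx

theorem moves_of_mem_normalizer {g : G} {S : Subgroup G} (h : g ∈ normalizer (S : Set G)) :
    Moves g S S := fun x hx => (mem_normalizer_iff.1 h x).1 hx

variable [Finite G] {q : ℕ} [hq : Fact q.Prime]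

/-- `R` is a Sylow `q`-subgroup of `M`, phrased inside `G`. -/
structure SylIn (q : ℕ) (R M : Subgroup G) : Prop where
  le : R ≤ M
  isPGroup : IsPGroup q R
  moves : ∀ S : Subgroup G, S ≤ M → IsPGroup q S → ∃ m ∈ M, Moves m S R
  not_dvd : ¬ q ∣ R.relIndex M

theorem exists_sylIn_le {S M : Subgroup G} (hSM : S ≤ M) (hS : IsPGroup q S) :
    ∃ R : Subgroup G, S ≤ R ∧ SylIn q R M := by
  have hS' : IsPGroup q (S.subgroupOf M) :=
    hS.of_equiv (Subgroup.subgroupOfEquivOfLe hSM).symm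
  obtain ⟨P, hP⟩ := hS'.exists_le_sylow
  refine ⟨(P : Subgroup M).map M.subtype, ?_, map_subtype_le _, P.2.map _, ?_, ?_⟩
  · intro x hx
    exact ⟨⟨x, hSM hx⟩, hP (show (⟨x, hSM hx⟩ : M) ∈ S.subgroupOf M from hx), rfl⟩
  · intro T hTM hT
    have hT' : IsPGroup q (T.subgroupOf M) :=
      hT.of_equiv (Subgroup.subgroupOfEquivOfLe hTM).symm
    obtain ⟨Q, hQ⟩ := hT'.exists_le_sylow
    obtain ⟨m, hm⟩ := MulAction.exists_smul_eq M Q P
    refine ⟨m, m.2, fun x hx => ?_⟩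
    refine ⟨m * ⟨x, hTM hx⟩ * m⁻¹, ?_, rfl⟩
    rw [← hm]
    exact ⟨⟨x, hTM hx⟩, hQ (show (⟨x, hTM hx⟩ : M) ∈ T.subgroupOf M from hx), rfl⟩
  · rw [Subgroup.relIndex, Subgroup.subgroupOf,
      Subgroup.comap_map_eq_self_of_injective (subtype_injective M)]
    exact P.not_dvd_index

theorem SylIn.card_le {R M S : Subgroup G} (h : SylIn q R M) (hS : S ≤ M) (hSp : IsPGroup q S) :
    Nat.card S ≤ Nat.card R := by
  obtain ⟨m, -, hm⟩ := h.moves S hS hSp
  rw [← card_conj m S]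
  exact Nat.card_le_card_of_injective _ (Subgroup.inclusion_injective hm.map_le)

theorem SylIn.mono {R M K : Subgroup G} (h : SylIn q R M) (hRK : R ≤ K) (hKM : K ≤ M) :
    SylIn q R K := by
  obtain ⟨R', hle, hR'⟩ := exists_sylIn_le hRK h.isPGroup
  have he : R = R' :=
    Subgroup.eq_of_le_of_card_ge hle (h.card_le (hR'.le.trans hKM) hR'.isPGroup)
  exact he ▸ hR'

/-- A Sylow subgroup meets a normalised subgroup in a Sylow subgroup of the latter. -/
theorem SylIn.inf_normal {R N C : Subgroup G} (h : SylIn q R N) (hCN : C ≤ N)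
    (hn : ∀ g ∈ N, Moves g C C) : SylIn q (R ⊓ C) C := by
  obtain ⟨R', hle, hR'⟩ := exists_sylIn_le (S := R ⊓ C) (M := C) inf_le_right (h.isPGroup.to_le inf_le_left)
  obtain ⟨m, hm, hmov⟩ := h.moves R' (hR'.le.trans hCN) hR'.isPGroup
  have h2 : Moves m R' (R ⊓ C) := fun x hx => ⟨hmov x hx, hn m hm x (hR'.le hx)⟩
  have he : R ⊓ C = R' := Subgroup.eq_of_le_of_card_ge hle (by
    rw [← card_conj m R']
    exact Nat.card_le_card_of_injective _ (Subgroup.inclusion_injective h2.map_le))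
  exact he ▸ hR'

theorem card_sup_mul {L C : Subgroup G} (h : L ≤ normalizer (C : Set G)) :
    Nat.card ↥(L ⊔ C) * Nat.card ↥(L ⊓ C) = Nat.card L * Nat.card C := by
  have h0 : ∀ A B : Subgroup G, A ≤ B → Nat.card A * A.relIndex B = Nat.card B := by
    intro A B hAB
    rw [← Subgroup.relIndex_bot_left A, Subgroup.relIndex_mul_relIndex _ _ _ bot_le hAB,
      Subgroup.relIndex_bot_left]
  have hC : C ≤ normalizer (C : Set G) := le_normalizer
  have h1 : C.relIndex (L ⊔ C) = C.relIndex L := by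
    rw [← Subgroup.relIndex_subgroupOf (K := L ⊔ C) (sup_le h hC),
      ← Subgroup.relIndex_subgroupOf (K := L) h, Subgroup.subgroupOf_sup h hC]
    exact Subgroup.relIndex_sup_right _ _
  have h2 : (L ⊓ C).relIndex L = C.relIndex L := by
    rw [inf_comm, Subgroup.inf_relIndex_right]
  calc Nat.card ↥(L ⊔ C) * Nat.card ↥(L ⊓ C)
      = (Nat.card C * C.relIndex L) * Nat.card ↥(L ⊓ C) := by rw [← h1, h0 C (L ⊔ C) le_sup_right]
    _ = (Nat.card ↥(L ⊓ C) * (L ⊓ C).relIndex L) * Nat.card C := by rw [h2]; ring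
    _ = Nat.card L * Nat.card C := by rw [h0 (L ⊓ C) L inf_le_left]

theorem pi_mono {π : Set ℕ} {X Y : Subgroup G} (hY : Cfsg.IsPiSubgroup π Y) (h : X ≤ Y) :
    Cfsg.IsPiSubgroup π X := fun p hp hd => hY p hp (hd.trans (Subgroup.card_dvd_of_le h))

theorem pi_sup {π : Set ℕ} {X Y : Subgroup G} (hX : Cfsg.IsPiSubgroup π X)
    (hY : Cfsg.IsPiSubgroup π Y) (h : Y ≤ normalizer (X : Set G)) :
    Cfsg.IsPiSubgroup π (Y ⊔ X) := by
  intro p hp hd
  have h2 : p ∣ Nat.card Y * Nat.card X := by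
    rw [← card_sup_mul h]; exact hd.mul_right _
  rcases hp.dvd_mul.1 h2 with h3 | h3
  exacts [hY p hp h3, hX p hp h3]

theorem pi_of_isPGroup {π : Set ℕ} {X : Subgroup G} (hqπ : q ∈ π) (hX : IsPGroup q X) :
    Cfsg.IsPiSubgroup π X := by
  intro p hp hd
  obtain ⟨n, hn⟩ := hX.exists_card_eq
  rw [hn] at hd
  exact ((Nat.prime_dvd_prime_iff_eq hp hq.out).1 (hp.dvd_of_dvd_pow hd)) ▸ hqπ

theorem pi_map {π : Set ℕ} {X : Subgroup G} (g : G) (hX : Cfsg.IsPiSubgroup π X) :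
    Cfsg.IsPiSubgroup π (X.map (MulAut.conj g).toMonoidHom) := by
  intro p hp hd
  rw [card_conj] at hd
  exact hX p hp hd

/-- A supplement consisting of `π`-elements for a subgroup of `π`-index in a normal position. -/
theorem exists_pi_supplement {π : Set ℕ} (N C : Subgroup G) (hCN : C ≤ N)
    (hn : ∀ g ∈ N, Moves g C C) (hπ : ∀ p : ℕ, p.Prime → p ∣ C.relIndex N → p ∈ π) :
    ∃ L : Subgroup G, L ≤ N ∧ Cfsg.IsPiSubgroup π L ∧ ∀ n ∈ N, ∃ c ∈ C, ∃ l ∈ L, n = c * l := by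
  classical
  obtain ⟨L, ⟨hLN, hLsup⟩, hmin⟩ :=
    Set.exists_min_image {L : Subgroup G | L ≤ N ∧ ∀ n ∈ N, ∃ c ∈ C, ∃ l ∈ L, n = c * l}
      (fun L => Nat.card L) (Set.toFinite _)
      ⟨N, le_rfl, fun n hn' => ⟨1, one_mem _, n, hn', (one_mul n).symm⟩⟩
  refine ⟨L, hLN, ?_, hLsup⟩
  intro r hr hrL
  by_contra hrπ
  haveI := Fact.mk hr
  obtain ⟨P, -, hP⟩ := exists_sylIn_le (q := r) (S := (⊥ : Subgroup G)) (M := L) bot_le IsPGroup.of_bot
  haveI : (C.subgroupOf N).Normal := ⟨fun x hx g => hn g g.2 x hx⟩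
  have hPC : P ≤ C := by
    intro x hx
    obtain ⟨k, hk⟩ := hP.isPGroup ⟨x, hx⟩
    have hk' : x ^ r ^ k = 1 := by simpa using congrArg Subtype.val hk
    set y : ↥N ⧸ C.subgroupOf N := QuotientGroup.mk' _ ⟨x, hLN (hP.le hx)⟩ with hy
    have h1 : orderOf y ∣ r ^ k := by
      refine orderOf_dvd_of_pow_eq_one ?_
      rw [hy, ← map_pow]
      have : (⟨x, hLN (hP.le hx)⟩ : ↥N) ^ r ^ k = 1 := Subtype.ext (by simpa using hk')
      rw [this, map_one]
    have h2 : orderOf y ∣ C.relIndex N := by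
      rw [Subgroup.relIndex, Subgroup.index_eq_card]; exact orderOf_dvd_natCard y
    have h3 : orderOf y = 1 := by
      obtain ⟨i, -, hi⟩ := (Nat.dvd_prime_pow hr).1 h1
      rcases Nat.eq_zero_or_pos i with rfl | hi0
      · rw [hi, pow_zero]
      · exact absurd (hπ r hr ((dvd_pow_self r hi0.ne').trans (hi ▸ h2))) hrπ
    exact Subgroup.mem_subgroupOf.1 ((QuotientGroup.eq_one_iff _).1 (orderOf_eq_one_iff.1 h3))
  have hD : SylIn r P (L ⊓ C) := hP.mono (le_inf hP.le hPC) inf_le_left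
  have hNP : L ≤ L ⊓ normalizer (P : Set G) := by
    have hmem : (L ⊓ normalizer (P : Set G)) ∈
        {L : Subgroup G | L ≤ N ∧ ∀ n ∈ N, ∃ c ∈ C, ∃ l ∈ L, n = c * l} := by
      refine ⟨inf_le_left.trans hLN, fun n hn' => ?_⟩
      obtain ⟨c, hc, l, hl, rfl⟩ := hLsup n hn'
      obtain ⟨d, hd, hdm⟩ := hD.moves (P.map (MulAut.conj l).toMonoidHom)
        (Moves.map_le fun x hx => Subgroup.mem_inf.2 ⟨mul_mem (mul_mem hl (hP.le hx)) (inv_mem hl), hn l (hLN hl) x (hPC hx)⟩)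
        (hP.isPGroup.map _)
      refine ⟨c * d⁻¹, C.mul_mem hc (C.inv_mem hd.2), d * l, ⟨L.mul_mem hd.1 hl, ?_⟩, by group⟩
      exact mem_normalizer_of_moves ((moves_map l P).mul hdm)
    exact le_of_eq (Subgroup.eq_of_le_of_card_ge inf_le_left (hmin _ hmem)).symm
  haveI : (P.subgroupOf L).Normal :=
    ⟨fun x hx g => moves_of_mem_normalizer (hNP g.2).2 x hx⟩
  have hcop : (Nat.card (P.subgroupOf L)).Coprime (P.subgroupOf L).index := by
    obtain ⟨n, hn'⟩ := hP.isPGroup.exists_card_eq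
    rw [Nat.card_congr (Subgroup.subgroupOfEquivOfLe hP.le).toEquiv, hn']
    exact Nat.Coprime.pow_left n ((hr.coprime_iff_not_dvd).2 hP.not_dvd)
  obtain ⟨K, hK⟩ := Subgroup.exists_right_complement'_of_coprime hcop
  have hmem : K.map L.subtype ∈ {L : Subgroup G | L ≤ N ∧ ∀ n ∈ N, ∃ c ∈ C, ∃ l ∈ L, n = c * l} := by
    refine ⟨(map_subtype_le _).trans hLN, fun n hn' => ?_⟩
    obtain ⟨c, hc, l, hl, rfl⟩ := hLsup n hn'
    obtain ⟨⟨⟨p', hp'⟩, ⟨k, hk⟩⟩, hpk, -⟩ := hK.existsUnique ⟨l, hl⟩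
    refine ⟨c * (p' : G), mul_mem hc (hPC hp'), k, ⟨k, hk, rfl⟩, ?_⟩
    rw [mul_assoc]; exact congrArg (c * ·) (congrArg Subtype.val hpk).symm
  have h1 := hK.card_mul
  have h2 : Nat.card L ≤ Nat.card ↥(K.map L.subtype) := hmin _ hmem
  rw [Nat.card_congr (K.equivMapOfInjective _ (subtype_injective L)).toEquiv.symm] at h2
  have h4 : Nat.card ↥(P.subgroupOf L) = 1 := by
    have hKpos : 0 < Nat.card K := Nat.card_pos
    have hPpos : 0 < Nat.card ↥(P.subgroupOf L) := Nat.card_pos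
    by_contra hne
    have : 2 * Nat.card K ≤ Nat.card ↥(P.subgroupOf L) * Nat.card K :=
      Nat.mul_le_mul_right _ (by omega)
    omega
  rw [Nat.card_congr (Subgroup.subgroupOfEquivOfLe hP.le).toEquiv] at h4
  refine hP.not_dvd ?_
  rw [Subgroup.card_eq_one.1 h4, Subgroup.relIndex_bot_left]
  exact hrL

end CfsgLib.HomogComplement
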