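import Cfsg.Agent.Lib.HomogComplement.Basic

/-!
# A π-homogeneous group with the full Sylow theorem for π controls fusion in a Hall subgroup

If every `π`-subgroup of `G` is conjugate into `H` and every automiser of a `π`-subgroup is a
`π`-group, then two elements of `H` conjugate in `G` are already conjugate in `H`.
-/

set_option autoImplicit false
set_option linter.unusedSectionVars false

namespace CfsgLib.HomogComplement

open Subgroup

universe u

variable {G : Type u} [Group G]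

/-- Conjugation by `h` and by `g` agree on `Q`. -/
def Agree (h g : G) (Q : Subgroup G) : Prop := ∀ x ∈ Q, h * x * h⁻¹ = g * x * g⁻¹

/-- The fusion of `X` into `H` is realised inside `H`. -/
def Fus (H X : Subgroup G) : Prop := ∀ g : G, Moves g X H → ∃ h ∈ H, Agree h g X

theorem Agree.mem_centralizer {h g : G} {Q : Subgroup G} (ha : Agree h g Q) :
    h⁻¹ * g ∈ centralizer (Q : Set G) := by
  rw [mem_centralizer_iff]
  intro x hx
  have e : h⁻¹ * g * x * (h⁻¹ * g)⁻¹ = x := by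
    have : g * x * g⁻¹ = h * x * h⁻¹ := (ha x hx).symm
    calc h⁻¹ * g * x * (h⁻¹ * g)⁻¹ = h⁻¹ * (g * x * g⁻¹) * h := by group
      _ = x := by rw [this]; group
  exact (mul_inv_eq_iff_eq_mul.1 e).symm

theorem conj_eq_of_mem_centralizer {c x : G} {Q : Subgroup G} (hc : c ∈ centralizer (Q : Set G))
    (hx : x ∈ Q) : c * x * c⁻¹ = x :=
  mul_inv_eq_iff_eq_mul.2 (mem_centralizer_iff.1 hc x hx).symm

/-- The hypotheses: every `π`-subgroup is conjugate into `H`, all automisers are `π`-groups. -/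
structure Data (π : Set ℕ) (H : Subgroup G) : Prop where
  conj : ∀ X : Subgroup G, Cfsg.IsPiSubgroup π X → ∃ g : G, Moves g X H
  piH : Cfsg.IsPiSubgroup π H
  homog : ∀ X : Subgroup G, Cfsg.IsPiSubgroup π X → ∀ p : ℕ, p.Prime →
    p ∣ (centralizer (X : Set G)).relIndex (normalizer (X : Set G)) → p ∈ π

variable [Finite G] {π : Set ℕ} {H : Subgroup G}

/-- A `π`-subgroup centralising `A` moves into `H` by an element centralising `A`. -/
theorem exists_centralizer_moves (hd : Data π H) {A X : Subgroup G} (hAH : A ≤ H) (hA : Fus H A)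
    (hXA : X ≤ centralizer (A : Set G)) (hX : Cfsg.IsPiSubgroup π X) :
    ∃ c ∈ centralizer (A : Set G), Moves c X (H ⊓ centralizer (A : Set G)) := by
  obtain ⟨g, hg⟩ := hd.conj (X ⊔ A) (pi_sup (pi_mono hd.piH hAH) hX
    (hXA.trans (Subgroup.centralizer_le_normalizer _)))
  obtain ⟨h, hh, hag⟩ := hA g fun a ha => hg a (le_sup_right (a := X) ha)
  refine ⟨h⁻¹ * g, hag.mem_centralizer, fun x hx => mem_inf.2 ⟨?_, ?_⟩⟩
  · have e : h⁻¹ * g * x * (h⁻¹ * g)⁻¹ = h⁻¹ * (g * x * g⁻¹) * h := by group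
    rw [e]
    exact H.mul_mem (H.mul_mem (H.inv_mem hh) (hg x (le_sup_left (b := A) hx))) hh
  · exact mul_mem (mul_mem hag.mem_centralizer (hXA hx)) (inv_mem hag.mem_centralizer)

variable {q : ℕ} [hq : Fact q.Prime]

/-- Some Sylow `q`-subgroup of `C(A)` lies in `H`. -/
theorem exists_sylIn_inf (hd : Data π H) (hqπ : q ∈ π) {A : Subgroup G} (hAH : A ≤ H) (hA : Fus H A) :
    ∃ R : Subgroup G, R ≤ H ∧ SylIn q R (centralizer (A : Set G)) := by
  set M := centralizer (A : Set G) with hM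
  obtain ⟨R₀, -, hR₀⟩ := exists_sylIn_le (q := q) (S := (⊥ : Subgroup G)) (M := M) bot_le IsPGroup.of_bot
  obtain ⟨c, -, hcm⟩ := exists_centralizer_moves hd hAH hA hR₀.le (pi_of_isPGroup hqπ hR₀.isPGroup)
  have h1 : R₀.map (MulAut.conj c).toMonoidHom ≤ H ⊓ M := hcm.map_le
  obtain ⟨R', hle, hR'⟩ := exists_sylIn_le (h1.trans inf_le_right) (hR₀.isPGroup.map _)
  have he : R₀.map (MulAut.conj c).toMonoidHom = R' :=
    Subgroup.eq_of_le_of_card_ge hle (by rw [card_conj]; exact hR₀.card_le hR'.le hR'.isPGroup)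
  exact ⟨R', he ▸ h1.trans inf_le_left, hR'⟩

/-- The automiser in `C(A)` of a well-placed `q`-subgroup is covered by `H`. -/
theorem exists_cover (hd : Data π H) (hqπ : q ∈ π) {A R U : Subgroup G} (hAH : A ≤ H) (hA : Fus H A)
    (hRH : R ≤ H) (hR : SylIn q R (centralizer (A : Set G))) (hUR : U ≤ R)
    (hRU : SylIn q (R ⊓ normalizer (U : Set G)) (centralizer (A : Set G) ⊓ normalizer (U : Set G)))
    (IH : ∀ Q : Subgroup G, Q ≤ R → Nat.card U < Nat.card Q → ∀ m ∈ centralizer (A : Set G),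
      Moves m Q R → ∃ h ∈ H ⊓ centralizer (A : Set G), Agree h m Q) :
    ∀ n ∈ centralizer (A : Set G) ⊓ normalizer (U : Set G),
      ∃ h ∈ H ⊓ centralizer (A : Set G), Agree h n U := by
  classical
  set M := centralizer (A : Set G) with hMdef
  set N := M ⊓ normalizer (U : Set G) with hNdef
  set RU := R ⊓ normalizer (U : Set G) with hRUdef
  set C := M ⊓ centralizer (U : Set G) with hCdef
  have hCN : C ≤ N := inf_le_inf_left M (Subgroup.centralizer_le_normalizer _)
  have hnC : ∀ g ∈ N, Moves g C C := by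
    intro g hg x hx
    refine mem_inf.2 ⟨M.mul_mem (M.mul_mem hg.1 hx.1) (M.inv_mem hg.1), ?_⟩
    rw [mem_centralizer_iff]
    intro u hu
    have hu' : g⁻¹ * u * g ∈ U := by
      have := (mem_normalizer_iff.1 (inv_mem hg.2) u).1 hu
      simpa using this
    have e := mem_centralizer_iff.1 hx.2 _ hu'
    calc u * (g * x * g⁻¹) = g * ((g⁻¹ * u * g) * x) * g⁻¹ := by group
      _ = g * (x * (g⁻¹ * u * g)) * g⁻¹ := by rw [e]
      _ = g * x * g⁻¹ * u := by group
  have hURU : U ≤ RU := le_inf hUR le_normalizer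
  set S := RU ⊓ C with hSdef
  have hS : SylIn q S C := hRU.inf_normal hCN hnC
  set N' := N ⊓ normalizer (S : Set G) with hN'def
  set C' := N' ⊓ C with hC'def
  have hRUN' : RU ≤ N' := fun r hr => mem_inf.2 ⟨hRU.le hr, mem_normalizer_of_moves fun x hx =>
    mem_inf.2 ⟨RU.mul_mem (RU.mul_mem hr hx.1) (RU.inv_mem hr), hnC r (hRU.le hr) x hx.2⟩⟩
  have hnC' : ∀ g ∈ N', Moves g C' C' := fun g hg x hx =>
    mem_inf.2 ⟨N'.mul_mem (N'.mul_mem hg hx.1) (N'.inv_mem hg), hnC g hg.1 x hx.2⟩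
  have hπC : ∀ p : ℕ, p.Prime → p ∣ C'.relIndex N' → p ∈ π := by
    intro p hp hpd
    refine hd.homog U (pi_mono hd.piH (hUR.trans hRH)) p hp ?_
    have e1 : centralizer (U : Set G) ⊓ N' = C' := by
      ext x
      simp only [hC'def, hCdef, hN'def, hNdef, mem_inf]
      tauto
    rw [← e1, Subgroup.inf_relIndex_right] at hpd
    have hle : N' ≤ normalizer (U : Set G) := inf_le_left.trans inf_le_right
    haveI : ((centralizer (U : Set G)).subgroupOf (normalizer (U : Set G))).Normal := inferInstance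
    refine hpd.trans ?_
    rw [← Subgroup.relIndex_subgroupOf (K := N') hle]
    exact Subgroup.relIndex_dvd_index_of_normal _ _
  obtain ⟨L₀, hL₀N, hL₀π, hL₀cov⟩ := exists_pi_supplement N' C' inf_le_left hnC' hπC
  -- enlarge the supplement by `S` and `U`
  set L := L₀ ⊔ (S ⊔ U) with hLdef
  have hSUN : ∀ g ∈ N', g ∈ normalizer ((S ⊔ U : Subgroup G) : Set G) := by
    intro g hg
    refine mem_normalizer_of_moves fun x hx => ?_
    have h1 : (S ⊔ U).map (MulAut.conj g).toMonoidHom ≤ S ⊔ U := by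
      rw [Subgroup.map_sup]
      exact sup_le_sup (moves_of_mem_normalizer hg.2).map_le (moves_of_mem_normalizer hg.1.2).map_le
    exact h1 (moves_map g (S ⊔ U) x hx)
  have hSUle : S ⊔ U ≤ RU := sup_le inf_le_left hURU
  have hLN : L ≤ N' := sup_le hL₀N (hSUle.trans hRUN')
  have hLπ : Cfsg.IsPiSubgroup π L :=
    pi_sup (pi_of_isPGroup hqπ (hRU.isPGroup.to_le hSUle)) hL₀π fun g hg => hSUN g (hL₀N hg)
  have hcov' : ∀ n ∈ N', ∃ c ∈ C', ∃ l ∈ L, n = c * l := fun n hn => by
    obtain ⟨c, hc, l, hl, e⟩ := hL₀cov n hn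
    exact ⟨c, hc, l, le_sup_left (b := S ⊔ U) hl, e⟩
  have hLnorm : L ≤ normalizer (C' : Set G) := fun l hl => mem_normalizer_of_moves (hnC' l (hLN hl))
  have hsup : L ⊔ C' = N' := by
    refine le_antisymm (sup_le hLN inf_le_left) fun n hn => ?_
    obtain ⟨c, hc, l, hl, rfl⟩ := hcov' n hn
    exact mul_mem (le_sup_right (a := L) hc) (le_sup_left (b := C') hl)
  -- `L` contains a conjugate of `RU`
  have hcard : Nat.card RU ∣ Nat.card L := by
    have h1 := card_sup_mul hLnorm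
    rw [hsup] at h1
    have hSC' : S ≤ C' := le_inf ((inf_le_left).trans hRUN') inf_le_right
    have hSL : S ≤ L ⊓ C' := le_inf (le_sup_left.trans (le_sup_right (a := L₀))) hSC'
    have h2 : Nat.card S * S.relIndex C' = Nat.card C' := by
      rw [← Subgroup.relIndex_bot_left S, Subgroup.relIndex_mul_relIndex _ _ _ bot_le hSC',
        Subgroup.relIndex_bot_left]
    obtain ⟨k, hk⟩ := hRU.isPGroup.exists_card_eq
    have hndvd : ¬ q ∣ S.relIndex C' := (hS.mono hSC' inf_le_right).not_dvd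
    have hdv : Nat.card RU * Nat.card S ∣ Nat.card L * (Nat.card S * S.relIndex C') := by
      rw [h2, ← h1]
      exact mul_dvd_mul (Subgroup.card_dvd_of_le hRUN') (Subgroup.card_dvd_of_le hSL)
    rw [show Nat.card L * (Nat.card S * S.relIndex C') = (Nat.card L * S.relIndex C') * Nat.card S by ring] at hdv
    have h3 : Nat.card RU ∣ Nat.card L * S.relIndex C' := Nat.dvd_of_mul_dvd_mul_right Nat.card_pos hdv
    rw [hk] at h3 ⊢
    exact ((hq.out.coprime_iff_not_dvd.2 hndvd).pow_left k).dvd_of_dvd_mul_right h3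
  obtain ⟨k, hk⟩ := hRU.isPGroup.exists_card_eq
  rw [hk] at hcard
  obtain ⟨P₀, hP₀⟩ := Sylow.exists_subgroup_card_pow_prime q hcard
  set P := P₀.map L.subtype with hPdef
  have hPcard : Nat.card P = q ^ k := by
    rw [hPdef, ← hP₀]
    exact (Nat.card_congr (P₀.equivMapOfInjective _ (subtype_injective L)).toEquiv).symm
  have hPL : P ≤ L := map_subtype_le _
  obtain ⟨d, hdN, hdm⟩ := hRU.moves P (hPL.trans (hLN.trans inf_le_left)) (IsPGroup.of_card hPcard)
  have hPeq : P.map (MulAut.conj d).toMonoidHom = RU :=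
    Subgroup.eq_of_le_of_card_ge hdm.map_le (by rw [card_conj, hPcard, hk])
  set L₁ := L.map (MulAut.conj d).toMonoidHom with hL₁def
  have hRUL₁ : RU ≤ L₁ := hPeq ▸ Subgroup.map_mono hPL
  have hdmov : Moves d L N := fun x hx =>
    N.mul_mem (N.mul_mem hdN (hLN hx).1) (N.inv_mem hdN)
  -- `N = C · L₁`
  have hcov : ∀ n ∈ N, ∃ c ∈ C, ∃ l ∈ L₁, n = c * l := by
    intro n hn
    set m := d⁻¹ * n * d with hm
    have hmN : m ∈ N := N.mul_mem (N.mul_mem (N.inv_mem hdN) hn) hdN
    obtain ⟨z, hz, hzm⟩ := hS.moves (S.map (MulAut.conj m).toMonoidHom)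
      (Moves.map_le fun x hx => hnC m hmN x hx.2) (hS.isPGroup.map _)
    have hzm' : z * m ∈ N' := mem_inf.2 ⟨N.mul_mem (hCN hz) hmN,
      mem_normalizer_of_moves ((moves_map m S).mul hzm)⟩
    obtain ⟨c, hc, l, hl, hcl⟩ := hcov' _ hzm'
    refine ⟨d * (z⁻¹ * c) * d⁻¹, hnC d hdN _ (C.mul_mem (C.inv_mem hz) hc.2), d * l * d⁻¹,
      moves_map d L l hl, ?_⟩
    have e : m = z⁻¹ * (c * l) := by rw [← hcl]; group
    calc n = d * m * d⁻¹ := by rw [hm]; group
      _ = _ := by rw [e]; group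
  -- move `L₁` into `H`
  have hL₁M : L₁ ≤ M := (hdmov.map_le).trans inf_le_left
  obtain ⟨c, hcM, hcm⟩ := exists_centralizer_moves hd hAH hA hL₁M (pi_map d hLπ)
  have hRHM : R ≤ H ⊓ M := le_inf hRH hR.le
  have hcRU : RU.map (MulAut.conj c).toMonoidHom ≤ H ⊓ M :=
    Moves.map_le fun x hx => hcm x (hRUL₁ hx)
  obtain ⟨a, ha, ham⟩ := (hR.mono hRHM inf_le_right).moves _ hcRU (hRU.isPGroup.map _)
  have hacRU : Moves (a * c) RU R := (moves_map c RU).mul ham
  have hac : a * c ∈ M := M.mul_mem ha.2 hcM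
  obtain ⟨b, hb, hdU⟩ : ∃ b ∈ H ⊓ M, b * c ∈ normalizer (U : Set G) := by
    rcases lt_or_eq_of_le (Subgroup.card_le_of_le hURU) with hlt | heq
    · obtain ⟨h', hh', hag⟩ := IH RU inf_le_left hlt (a * c) hac hacRU
      refine ⟨h'⁻¹ * a, (H ⊓ M).mul_mem ((H ⊓ M).inv_mem hh') ha,
        Subgroup.centralizer_le_normalizer _ ?_⟩
      rw [mul_assoc]
      exact Subgroup.centralizer_le (by exact_mod_cast hURU) hag.mem_centralizer
    · have hU : U = RU := Subgroup.eq_of_le_of_card_ge hURU heq.ge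
      have hRU' : RU = R := by
        by_contra hne
        haveI : Group.IsNilpotent R := hR.isPGroup.isNilpotent
        have hlt : RU.subgroupOf R < ⊤ := lt_top_iff_ne_top.2 fun e =>
          hne (le_antisymm inf_le_left (Subgroup.subgroupOf_eq_top.1 e))
        have hno := Group.normalizerCondition_of_isNilpotent (G := R) _ hlt
        obtain ⟨y, hy, hyn⟩ := SetLike.exists_of_lt hno
        refine hyn (Subgroup.mem_subgroupOf.2 (mem_inf.2 ⟨y.2, mem_normalizer_of_moves fun x hx => ?_⟩))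
        have hxR : x ∈ R := hUR hx
        have := (mem_normalizer_iff.1 hy ⟨x, hxR⟩).1 (Subgroup.mem_subgroupOf.2 (hU ▸ hx))
        exact hU.symm ▸ (Subgroup.mem_subgroupOf.1 this)
      refine ⟨a, ha, mem_normalizer_of_moves ?_⟩
      rw [hU]
      rw [hRU'] at hacRU ⊢
      exact hacRU
  intro n hn
  have hbc : b * c ∈ N := mem_inf.2 ⟨M.mul_mem hb.2 hcM, hdU⟩
  set d' := b * c with hd'
  obtain ⟨z, hz, l, hl, hzl⟩ := hcov (d'⁻¹ * n * d') (N.mul_mem (N.mul_mem (N.inv_mem hbc) hn) hbc)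
  refine ⟨d' * l * d'⁻¹, ?_, fun x hx => ?_⟩
  · have e : d' * l * d'⁻¹ = b * (c * l * c⁻¹) * b⁻¹ := by rw [hd']; group
    rw [e]
    exact (H ⊓ M).mul_mem ((H ⊓ M).mul_mem hb (hcm l hl)) ((H ⊓ M).inv_mem hb)
  · have hne : n = (d' * z * d'⁻¹) * (d' * l * d'⁻¹) := by
      calc n = d' * (d'⁻¹ * n * d') * d'⁻¹ := by group
        _ = _ := by rw [hzl]; group
    have hln : d' * l * d'⁻¹ ∈ normalizer (U : Set G) :=
      mul_mem (mul_mem hbc.2 (hdmov.map_le hl).2) (inv_mem hbc.2)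
    set e := d' * l * d'⁻¹ with he
    set z' := d' * z * d'⁻¹ with hz'
    rw [hne]
    have hy : e * x * e⁻¹ ∈ U := (mem_normalizer_iff.1 hln x).1 hx
    have hzC : z' ∈ centralizer (U : Set G) := (hnC d' hbc z hz).2
    calc e * x * e⁻¹ = z' * (e * x * e⁻¹) * z'⁻¹ := (conj_eq_of_mem_centralizer hzC hy).symm
      _ = _ := by group

/-- Fusion of `q`-subgroups of `C(A)` inside a fixed Sylow subgroup is realised in `H`. -/
theorem fus_sylow (hd : Data π H) (hqπ : q ∈ π) {A R : Subgroup G} (hAH : A ≤ H) (hA : Fus H A)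
    (hRH : R ≤ H) (hR : SylIn q R (centralizer (A : Set G))) :
    ∀ (k : ℕ) (Q : Subgroup G), Q ≤ R → Nat.card R < Nat.card Q + k → ∀ m ∈ centralizer (A : Set G),
      Moves m Q R → ∃ h ∈ H ⊓ centralizer (A : Set G), Agree h m Q := by
  classical
  intro k
  induction k with
  | zero =>
      intro Q hQ hlt
      exact absurd (Subgroup.card_le_of_le hQ) (by omega)
  | succ k ih =>
      set M := centralizer (A : Set G) with hMdef
      intro Q hQR hcardQ m hm hmov
      have IH : ∀ Q' : Subgroup G, Q' ≤ R → Nat.card Q < Nat.card Q' → ∀ m ∈ M, Moves m Q' R →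
          ∃ h ∈ H ⊓ M, Agree h m Q' := fun Q' hQ' hlt => ih Q' hQ' (by omega)
      obtain ⟨U, ⟨m₀, hm₀, hm₀m, hUcard, hUR⟩, hmax⟩ :=
        Set.exists_max_image {U : Subgroup G | ∃ m₀ ∈ M, Moves m₀ Q U ∧ Nat.card U = Nat.card Q ∧ U ≤ R}
          (fun U => Nat.card ↥(R ⊓ normalizer (U : Set G))) (Set.toFinite _)
          ⟨Q, 1, one_mem _, fun x hx => by simpa using hx, rfl, hQR⟩
      have hRU : SylIn q (R ⊓ normalizer (U : Set G)) (M ⊓ normalizer (U : Set G)) := by
        obtain ⟨S, hle, hS⟩ := exists_sylIn_le (q := q) (S := R ⊓ normalizer (U : Set G))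
          (M := M ⊓ normalizer (U : Set G)) (inf_le_inf_right _ hR.le) (hR.isPGroup.to_le inf_le_left)
        obtain ⟨z, hz, hzm⟩ := hR.moves S (hS.le.trans inf_le_left) hS.isPGroup
        have hUS : U ≤ S := le_trans (le_inf hUR le_normalizer) hle
        have hmem : U.map (MulAut.conj z).toMonoidHom ∈
            {U : Subgroup G | ∃ m₀ ∈ M, Moves m₀ Q U ∧ Nat.card U = Nat.card Q ∧ U ≤ R} :=
          ⟨z * m₀, M.mul_mem hz hm₀, hm₀m.mul (moves_map z U), by rw [card_conj, hUcard],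
            Moves.map_le fun x hx => hzm x (hUS hx)⟩
        have h1 : S.map (MulAut.conj z).toMonoidHom ≤
            R ⊓ normalizer (U.map (MulAut.conj z).toMonoidHom : Set G) := by
          refine Moves.map_le fun x hx => mem_inf.2 ⟨hzm x hx, mem_normalizer_of_moves ?_⟩
          intro y hy
          rw [mem_conj_iff] at hy ⊢
          have := (mem_normalizer_iff.1 (hS.le hx).2 _).1 hy
          simpa [mul_assoc] using this
        have h2 := (Subgroup.card_le_of_le h1).trans (hmax _ hmem)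
        rw [card_conj] at h2
        exact (Subgroup.eq_of_le_of_card_ge hle h2) ▸ hS
      have hcover := exists_cover hd hqπ hAH hA hRH hR hUR hRU
        (fun Q' hQ' hlt => IH Q' hQ' (hUcard ▸ hlt))
      -- every map from a conjugate of `Q` in `R` onto `U` is realised
      have key : ∀ Q' : Subgroup G, Q' ≤ R → Nat.card Q' = Nat.card U → ∀ m' ∈ M, Moves m' Q' U →
          ∃ h ∈ H ⊓ M, Agree h m' Q' := by
        intro Q' hQ'R hQ'card m' hm' hmov'
        set RQ := R ⊓ normalizer (Q' : Set G) with hRQ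
        have hQ'map : Q'.map (MulAut.conj m').toMonoidHom = U :=
          Subgroup.eq_of_le_of_card_ge hmov'.map_le (by rw [card_conj, hQ'card])
        have h1 : RQ.map (MulAut.conj m').toMonoidHom ≤ M ⊓ normalizer (U : Set G) := by
          refine Moves.map_le fun x hx => mem_inf.2
            ⟨M.mul_mem (M.mul_mem hm' (hR.le hx.1)) (M.inv_mem hm'), mem_normalizer_of_moves ?_⟩
          intro y hy
          rw [← hQ'map, mem_conj_iff] at hy ⊢
          have := (mem_normalizer_iff.1 hx.2 _).1 hy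
          simpa [mul_assoc] using this
        obtain ⟨n, hn, hnm⟩ := hRU.moves _ h1 ((hR.isPGroup.to_le inf_le_left).map _)
        obtain ⟨e, he, hea⟩ := hcover n⁻¹ ((M ⊓ normalizer (U : Set G)).inv_mem hn)
        obtain ⟨h', hh', hag⟩ : ∃ h' ∈ H ⊓ M, Agree h' (n * m') Q' := by
          have hQle : Q' ≤ RQ := le_inf hQ'R le_normalizer
          rcases lt_or_eq_of_le (Subgroup.card_le_of_le hQle) with hlt | heq
          · obtain ⟨h', hh', hag⟩ := IH RQ inf_le_left (by rw [← hUcard, ← hQ'card]; exact hlt) (n * m')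
              (M.mul_mem hn.1 hm') fun x hx => ((moves_map m' RQ).mul hnm x hx).1
            exact ⟨h', hh', fun x hx => hag x (hQle hx)⟩
          · have hQ : Q' = RQ := Subgroup.eq_of_le_of_card_ge hQle heq.ge
            have hRQ' : Q' = R := by
              by_contra hne
              haveI : Group.IsNilpotent R := hR.isPGroup.isNilpotent
              have hlt : Q'.subgroupOf R < ⊤ := lt_top_iff_ne_top.2 fun e =>
                hne (le_antisymm hQ'R (Subgroup.subgroupOf_eq_top.1 e))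
              obtain ⟨y, hy, hyn⟩ := SetLike.exists_of_lt (Group.normalizerCondition_of_isNilpotent (G := R) _ hlt)
              refine hyn (Subgroup.mem_subgroupOf.2 (hQ.symm ▸ mem_inf.2 ⟨y.2, mem_normalizer_of_moves fun x hx => ?_⟩))
              exact Subgroup.mem_subgroupOf.1
                ((mem_normalizer_iff.1 hy ⟨x, hQ'R hx⟩).1 (Subgroup.mem_subgroupOf.2 hx))
            have hUR' : U = R := Subgroup.eq_of_le_of_card_ge hUR (by rw [← hQ'card, hRQ'])
            have hnm' : n * m' ∈ M ⊓ normalizer (U : Set G) := by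
              refine (M ⊓ normalizer (U : Set G)).mul_mem hn (mem_inf.2 ⟨hm', mem_normalizer_of_moves ?_⟩)
              rw [hRQ'] at hmov'
              rwa [← hUR'] at hmov'
            obtain ⟨h', hh', hag⟩ := hcover _ hnm'
            refine ⟨h', hh', fun x hx => hag x ?_⟩
            rw [hUR', ← hRQ']; exact hx
        refine ⟨e * h', (H ⊓ M).mul_mem he hh', fun x hx => ?_⟩
        have hy : (n * m') * x * (n * m')⁻¹ ∈ U := by
          have h3 := (mem_normalizer_iff.1 hn.2 _).1 (hmov' x hx)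
          simpa [mul_assoc, mul_inv_rev] using h3
        calc e * h' * x * (e * h')⁻¹ = e * (h' * x * h'⁻¹) * e⁻¹ := by group
          _ = e * ((n * m') * x * (n * m')⁻¹) * e⁻¹ := by rw [hag x hx]
          _ = n⁻¹ * ((n * m') * x * (n * m')⁻¹) * n⁻¹⁻¹ := hea _ hy
          _ = m' * x * m'⁻¹ := by group
      -- compose
      set Q₂ := Q.map (MulAut.conj m).toMonoidHom with hQ₂
      obtain ⟨h₁, hh₁, hag₁⟩ := key Q hQR hUcard.symm m₀ hm₀ hm₀m
      have hmov2 : Moves (m₀ * m⁻¹) Q₂ U := by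
        intro y hy
        rw [mem_conj_iff] at hy
        have := hm₀m _ hy
        simpa [mul_assoc, mul_inv_rev] using this
      obtain ⟨h₂, hh₂, hag₂⟩ := key Q₂ hmov.map_le (by rw [card_conj, hUcard]) (m₀ * m⁻¹)
        (M.mul_mem hm₀ (M.inv_mem hm)) hmov2
      refine ⟨h₂⁻¹ * h₁, (H ⊓ M).mul_mem ((H ⊓ M).inv_mem hh₂) hh₁, fun x hx => ?_⟩
      have e2 := hag₂ _ (moves_map m Q x hx)
      calc h₂⁻¹ * h₁ * x * (h₂⁻¹ * h₁)⁻¹ = h₂⁻¹ * (h₁ * x * h₁⁻¹) * h₂ := by group
        _ = h₂⁻¹ * (m₀ * m⁻¹ * (m * x * m⁻¹) * (m₀ * m⁻¹)⁻¹) * h₂ := by rw [hag₁ x hx]; group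
        _ = m * x * m⁻¹ := by rw [← e2]; group

/-- Fusion into `H` extends from `A` to `A ⊔ Q` for a `q`-subgroup `Q` of `C_H(A)`. -/
theorem fus_sup (hd : Data π H) (hqπ : q ∈ π) {A Q : Subgroup G} (hAH : A ≤ H) (hA : Fus H A)
    (hQ : Q ≤ H ⊓ centralizer (A : Set G)) (hQp : IsPGroup q Q) : Fus H (A ⊔ Q) := by
  set M := centralizer (A : Set G) with hMdef
  intro g hg
  obtain ⟨R, hRH, hR⟩ := exists_sylIn_inf hd hqπ hAH hA
  have hRHM : SylIn q R (H ⊓ M) := hR.mono (le_inf hRH hR.le) inf_le_right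
  obtain ⟨h, hh, hag⟩ := hA g fun a ha => hg a (le_sup_left (b := Q) ha)
  set c := h⁻¹ * g with hc
  have hcM : c ∈ M := hag.mem_centralizer
  have hcQ : Moves c Q (H ⊓ M) := fun x hx => by
    refine mem_inf.2 ⟨?_, M.mul_mem (M.mul_mem hcM (hQ hx).2) (M.inv_mem hcM)⟩
    have e : c * x * c⁻¹ = h⁻¹ * (g * x * g⁻¹) * h := by rw [hc]; group
    rw [e]
    exact H.mul_mem (H.mul_mem (H.inv_mem hh) (hg x (le_sup_right (a := A) hx))) hh
  obtain ⟨a₁, ha₁, hm₁⟩ := hRHM.moves Q hQ hQp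
  obtain ⟨a₂, ha₂, hm₂⟩ := hRHM.moves (Q.map (MulAut.conj c).toMonoidHom) hcQ.map_le (hQp.map _)
  set m := a₂ * c * a₁⁻¹ with hmdef
  obtain ⟨h₃, hh₃, hag₃⟩ := fus_sylow hd hqπ hAH hA hRH hR (Nat.card R + 1)
    (Q.map (MulAut.conj a₁).toMonoidHom) hm₁.map_le
    (by have := (Nat.card_pos : 0 < Nat.card ↥(Q.map (MulAut.conj a₁).toMonoidHom)); omega) m
    (M.mul_mem (M.mul_mem ha₂.2 hcM) (M.inv_mem ha₁.2)) (by
      intro y hy
      rw [mem_conj_iff] at hy
      have := hm₂ _ (moves_map c Q _ hy)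
      simpa [hmdef, mul_assoc, mul_inv_rev] using this)
  set k := a₂⁻¹ * h₃ * a₁ with hk
  have hkM : k ∈ H ⊓ M := (H ⊓ M).mul_mem ((H ⊓ M).mul_mem ((H ⊓ M).inv_mem ha₂) hh₃) ha₁
  refine ⟨h * k, H.mul_mem hh hkM.1, ?_⟩
  have hgen : A ⊔ Q ≤ MonoidHom.eqLocus (MulAut.conj (h * k)).toMonoidHom (MulAut.conj g).toMonoidHom := by
    refine sup_le (fun x hx => ?_) (fun x hx => ?_)
    · show h * k * x * (h * k)⁻¹ = g * x * g⁻¹
      calc h * k * x * (h * k)⁻¹ = h * (k * x * k⁻¹) * h⁻¹ := by group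
        _ = g * x * g⁻¹ := by rw [conj_eq_of_mem_centralizer hkM.2 hx, hag x hx]
    · show h * k * x * (h * k)⁻¹ = g * x * g⁻¹
      have e3 := hag₃ _ (moves_map a₁ Q x hx)
      calc h * k * x * (h * k)⁻¹ = h * a₂⁻¹ * (h₃ * (a₁ * x * a₁⁻¹) * h₃⁻¹) * a₂ * h⁻¹ := by rw [hk]; group
        _ = h * a₂⁻¹ * (m * (a₁ * x * a₁⁻¹) * m⁻¹) * a₂ * h⁻¹ := by rw [e3]
        _ = g * x * g⁻¹ := by rw [hmdef, hc]; group
  exact fun x hx => hgen hx

/-- Every element of `H` has its fusion controlled by `H`. -/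
theorem fus_zpowers (hd : Data π H) : ∀ (n : ℕ) (x : G), x ∈ H → orderOf x = n → Fus H (zpowers x) := by
  intro n
  induction n using Nat.strong_induction_on with
  | _ n ih =>
  intro x hx hn
  rcases eq_or_ne x 1 with rfl | hx1
  · intro g _
    exact ⟨1, one_mem _, fun y hy => by rw [Subgroup.zpowers_one_eq_bot, Subgroup.mem_bot] at hy; simp [hy]⟩
  · have hn1 : n ≠ 1 := fun h => hx1 (orderOf_eq_one_iff.1 (hn.trans h))
    obtain ⟨q, hq', hqd⟩ := Nat.exists_prime_and_dvd hn1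
    haveI := Fact.mk hq'
    have hn0 : 0 < n := hn ▸ orderOf_pos x
    have hqπ : q ∈ π := hd.piH q hq' (hqd.trans (hn ▸ Subgroup.orderOf_dvd_natCard H hx))
    set e := n.factorization q with he
    set b := n / q ^ e with hb
    have heb : q ^ e * b = n := Nat.ordProj_mul_ordCompl_eq_self n q
    have he0 : e ≠ 0 := (hq'.factorization_pos_of_dvd hn0.ne' hqd).ne'
    have hb0 : 0 < b := Nat.pos_of_ne_zero fun h0 => by rw [h0, mul_zero] at heb; omega
    have hqe : 0 < q ^ e := pow_pos hq'.pos e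
    set a := x ^ q ^ e with ha
    have ha' : orderOf a = b := by
      rw [ha, orderOf_pow' x hqe.ne', hn, Nat.gcd_eq_right ⟨b, heb.symm⟩, ← hb]
    set y := x ^ b with hy
    have hyp : IsPGroup q (zpowers y) := by
      refine IsPGroup.of_card (n := e) ?_
      rw [Nat.card_zpowers, hy, orderOf_pow' x hb0.ne', hn, Nat.gcd_eq_right ⟨q ^ e, by rw [mul_comm]; exact heb.symm⟩]
      exact Nat.div_eq_of_eq_mul_left hb0 heb.symm
    have haH : zpowers a ≤ H := zpowers_le.2 (pow_mem hx _)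
    have hlt : b < n := by
      rw [← heb]
      exact lt_mul_left hb0 (Nat.one_lt_pow he0 hq'.one_lt)
    have hF := fus_sup hd hqπ haH (ih b hlt a (pow_mem hx _) ha') (Q := zpowers y)
      (le_inf (zpowers_le.2 (pow_mem hx _)) (zpowers_le.2 (mem_centralizer_iff.2 fun z hz => by
        obtain ⟨i, rfl⟩ := hz
        exact ((Commute.refl x).pow_pow _ _).zpow_left i))) hyp
    have hgen : zpowers x = zpowers a ⊔ zpowers y := by
      refine le_antisymm (zpowers_le.2 ?_) (sup_le (zpowers_le.2 (pow_mem (mem_zpowers x) _)) (zpowers_le.2 (pow_mem (mem_zpowers x) _)))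
      have hcop : IsCoprime ((q ^ e : ℕ) : ℤ) (b : ℤ) :=
        Nat.isCoprime_iff_coprime.2 (Nat.Coprime.pow_left e (Nat.coprime_ordCompl hq' hn0.ne'))
      obtain ⟨u, v, huv⟩ := hcop
      have : x = a ^ u * y ^ v := by
        rw [ha, hy, ← zpow_natCast x (q ^ e), ← zpow_natCast x b, ← zpow_mul, ← zpow_mul, ← zpow_add,
          mul_comm _ u, mul_comm _ v, huv, zpow_one]
      rw [this]
      exact mul_mem (le_sup_left (b := zpowers y) (zpow_mem (mem_zpowers a) u))
        (le_sup_right (a := zpowers a) (zpow_mem (mem_zpowers y) v))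
    rw [hgen]
    exact hF

end CfsgLib.HomogComplement
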