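import Cfsg.Agent.Lib.HomogComplement.Fusion
import Cfsg.Agent.Lib.CharDeep.HallComplement

/-!
# π-homogeneous groups with the Sylow theorem for π are π'-closed
-/

set_option autoImplicit false
set_option linter.unusedSectionVars false

namespace CfsgLib.HomogComplement

open Subgroup

universe u

variable {G : Type u} [Group G] [Finite G] {π : Set ℕ}

theorem exists_maximal_pi_ge {X : Subgroup G} (hX : Cfsg.IsPiSubgroup π X) :
    ∃ K : Subgroup G, X ≤ K ∧ Maximal (Cfsg.IsPiSubgroup π) K := by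
  classical
  obtain ⟨K, hXK, hK⟩ := Finite.exists_le_maximal (p := fun K : Subgroup G => Cfsg.IsPiSubgroup π K) hX
  exact ⟨K, hXK, hK⟩

/-- A `π`-homogeneous group in which the maximal `π`-subgroups are conjugate is `π'`-closed. -/
theorem exists_pi_compl (hD : Cfsg.IsDPiGroup π G)
    (hhom : ∀ H : Subgroup G, H ≠ ⊥ → (∀ p : ℕ, p.Prime → p ∣ Nat.card ↥H → p ∈ π) →
      ∀ p : ℕ, p.Prime → p ∣ (centralizer (H : Set G)).relIndex (normalizer (H : Set G)) → p ∈ π) :
    ∃ K : Subgroup G, ∀ x : G, x ∈ K ↔ ∀ p : ℕ, p.Prime → p ∣ orderOf x → p ∉ π := by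
  classical
  cases nonempty_fintype G
  have hbot : Cfsg.IsPiSubgroup π (⊥ : Subgroup G) := fun p hp hd => by
    rw [Subgroup.card_bot, Nat.dvd_one] at hd
    exact absurd hd hp.ne_one
  obtain ⟨H, -, hH⟩ := exists_maximal_pi_ge hbot
  have hconj : ∀ X : Subgroup G, Cfsg.IsPiSubgroup π X → ∃ g : G, Moves g X H := by
    intro X hX
    obtain ⟨K, hXK, hK⟩ := exists_maximal_pi_ge hX
    obtain ⟨g, hg⟩ := hD K H hK hH
    exact ⟨g, fun x hx => hg ▸ moves_map g K x (hXK hx)⟩
  have hd : Data π H :=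
    { conj := hconj
      piH := hH.1
      homog := fun X hX => by
        rcases eq_or_ne X ⊥ with rfl | hne
        · intro p hp hpd
          have e : centralizer ((⊥ : Subgroup G) : Set G) = ⊤ := by
            rw [eq_top_iff]
            intro g _
            rw [mem_centralizer_iff]
            intro h hh
            rw [SetLike.mem_coe, Subgroup.mem_bot] at hh
            simp [hh]
          rw [e, Subgroup.relIndex_top_left, Nat.dvd_one] at hpd
          exact absurd hpd hp.ne_one
        · exact hhom X hne hX }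
  have hidx : ∀ p : ℕ, p.Prime → p ∈ π → ¬ p ∣ H.index := by
    intro p hp hpπ hpd
    haveI := Fact.mk hp
    obtain ⟨P⟩ := (inferInstance : Nonempty (Sylow p G))
    obtain ⟨g, hg⟩ := hconj P (pi_of_isPGroup hpπ P.2)
    have h1 : Nat.card (P : Subgroup G) ∣ Nat.card H := by
      rw [← card_conj g (P : Subgroup G)]; exact Subgroup.card_dvd_of_le hg.map_le
    have h2 : Nat.card (P : Subgroup G) * p ∣ Nat.card (P : Subgroup G) * (P : Subgroup G).index := by
      rw [Subgroup.card_mul_index, ← Subgroup.card_mul_index H]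
      exact mul_dvd_mul h1 hpd
    exact P.not_dvd_index (Nat.dvd_of_mul_dvd_mul_left Nat.card_pos h2)
  have hHall : Nat.Coprime (Nat.card H) H.index :=
    Nat.coprime_of_dvd fun p hp h1 h2 => hidx p hp (hH.1 p hp h1) h2
  have hfus : ∀ x ∈ H, ∀ y ∈ H, IsConj x y → ∃ h ∈ H, h * x * h⁻¹ = y := by
    intro x hx y hy hxy
    obtain ⟨g, rfl⟩ := isConj_iff.1 hxy
    obtain ⟨h, hh, hag⟩ := fus_zpowers hd (orderOf x) x hx rfl g fun z hz => by
      obtain ⟨i, rfl⟩ := hz
      simpa [conj_zpow] using zpow_mem hy i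
    exact ⟨h, hh, hag x (mem_zpowers x)⟩
  have helem : ∀ (E : Subgroup G) (p : ℕ), p.Prime → Cfsg.IsElementary p E → Nat.card E ∣ Nat.card H →
      ∃ g : G, E.map (MulAut.conj g).toMonoidHom ≤ H := by
    intro E p _ _ hE
    obtain ⟨g, hg⟩ := hconj E fun r hr hrd => hH.1 r hr (hrd.trans hE)
    exact ⟨g, hg.map_le⟩
  obtain ⟨K, hKn, hsup, hinf⟩ :=
    CfsgLib.CharDeep.HallCompl.exists_complement H hHall hfus helem
  haveI := hKn
  have hcompl : Subgroup.IsComplement' K H :=
    Subgroup.isComplement'_of_disjoint_and_mul_eq_univ (disjoint_iff.2 hinf) (by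
      rw [← Subgroup.normal_mul, hsup, Subgroup.coe_top])
  refine ⟨K, fun x => ⟨fun hx p hp hpd hpπ => ?_, fun hx => ?_⟩⟩
  · refine hidx p hp hpπ ?_
    rw [hcompl.index_eq_card]
    exact hpd.trans (Subgroup.orderOf_dvd_natCard K hx)
  · rw [← QuotientGroup.eq_one_iff, ← orderOf_eq_one_iff]
    by_contra hne
    obtain ⟨p, hp, hpd⟩ := Nat.exists_prime_and_dvd hne
    have h1 : orderOf (QuotientGroup.mk' K x) ∣ orderOf x := orderOf_map_dvd _ x
    have h2 : orderOf (QuotientGroup.mk' K x) ∣ Nat.card H := by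
      rw [← hcompl.symm.index_eq_card, Subgroup.index_eq_card]
      exact orderOf_dvd_natCard _
    exact hx p hp (hpd.trans h1) (hH.1 p hp (hpd.trans h2))

end CfsgLib.HomogComplement
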